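import Mathlib
import Groth.Agent.S2599
import Groth.Agent.Triage.SliceCM
import Groth.Agent.FlatLoc6.DimEq

/-!
# Systems of parameters give flat maps from regular rings
-/

set_option autoImplicit false
set_option linter.style.haveILetI false

universe u

open IsLocalRing RingTheory.Sequence

namespace Groth.Agent.CMOpen5

theorem length_le_ringKrullDim {R : Type u} [CommRing R] [IsLocalRing R] [IsNoetherianRing R] (rs : List R)
    (h : IsWeaklyRegular R rs) (hm : ∀ r ∈ rs, r ∈ maximalIdeal R) :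
    ((rs.length : ℕ) : WithBot ℕ∞) ≤ ringKrullDim R := by
  have hle : Ideal.ofList rs ≤ maximalIdeal R := Ideal.span_le.2 hm
  have hreg : IsRegular R rs := ⟨h, fun h => by
    rw [Ideal.smul_eq_mul, Ideal.mul_top] at h
    exact (maximalIdeal.isMaximal R).ne_top (top_le_iff.1 (h.le.trans hle))⟩
  have h1 := Module.supportDim_add_length_eq_supportDim_of_isRegular rs hreg
  rw [Module.supportDim_self_eq_ringKrullDim] at h1
  rw [← h1]
  haveI : Nontrivial (R ⧸ (Ideal.ofList rs • ⊤ : Submodule R R)) :=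
    Submodule.Quotient.nontrivial_iff.2 (Ne.symm hreg.top_ne_smul)
  obtain ⟨d, hd⟩ := WithBot.ne_bot_iff_exists.1
    (Module.supportDim_ne_bot_of_nontrivial R (R ⧸ (Ideal.ofList rs • ⊤ : Submodule R R)))
  rw [← hd]
  exact le_add_of_nonneg_left (by exact_mod_cast bot_le (a := d))

/-- A system of parameters of a Cohen-Macaulay quotient may be taken among numerators. -/
theorem exists_params {P O : Type u} [CommRing P] [CommRing O] [IsLocalRing O] (J : Ideal O) (T : P →+* O)
    (hT : ∀ z : O, ∃ a u, IsUnit (T u) ∧ z * T u = T a) (hCM : LocCoh.IsCohenMacaulayLocalRing (O ⧸ J)) :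
    ∃ (n : ℕ) (b : Fin n → P), ((n : ℕ) : WithBot ℕ∞) ≤ ringKrullDim (O ⧸ J) ∧
      (∀ i, T (b i) ∈ maximalIdeal O) ∧
        ∀ Q : Ideal O, Q.IsPrime → J ≤ Q → (∀ i, T (b i) ∈ Q) → Q = maximalIdeal O := by
  haveI := hCM
  obtain ⟨rs, hrs, hrm, hrP⟩ := @Triage.SliceCM.exists_seq _ _ hCM
  have hloc : IsLocalHom (Ideal.Quotient.mk J) := IsLocalHom.of_surjective _ Ideal.Quotient.mk_surjective
  have key : ∀ i : Fin rs.length, ∃ (a : P) (c : O), IsUnit c ∧ Ideal.Quotient.mk J (T a) = rs[i.1] * Ideal.Quotient.mk J c := by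
    intro i
    obtain ⟨z, hz⟩ := Ideal.Quotient.mk_surjective rs[i.1]
    obtain ⟨a, u, hu, hau⟩ := hT z
    exact ⟨a, T u, hu, by rw [← hau, map_mul, hz]⟩
  choose b c hc hbc using key
  refine ⟨rs.length, b, length_le_ringKrullDim rs hrs hrm, fun i => ?_, fun Q hQ hJQ hbQ => ?_⟩
  · intro hu
    refine hrm _ (List.getElem_mem i.2) ?_
    have := hu.map (Ideal.Quotient.mk J)
    rw [hbc] at this
    exact (IsUnit.mul_iff.1 this).1
  · haveI := Ideal.map_isPrime_of_surjective (f := Ideal.Quotient.mk J) Ideal.Quotient.mk_surjective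
      (by rwa [Ideal.mk_ker] : RingHom.ker (Ideal.Quotient.mk J) ≤ Q)
    have h1 := hrP (Q.map (Ideal.Quotient.mk J)) inferInstance fun r hr => by
      obtain ⟨i, hi, rfl⟩ := List.getElem_of_mem hr
      have := Ideal.mem_map_of_mem (Ideal.Quotient.mk J) (hbQ ⟨i, hi⟩)
      rw [hbc] at this
      exact ((inferInstance : (Q.map (Ideal.Quotient.mk J)).IsPrime).mem_or_mem this).resolve_right
        fun h => (inferInstance : (Q.map (Ideal.Quotient.mk J)).IsPrime).ne_top
          (Ideal.eq_top_of_isUnit_mem _ h ((hc _).map _))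
    have h2 := congrArg (Ideal.comap (Ideal.Quotient.mk J)) h1
    rw [Ideal.comap_map_of_surjective _ Ideal.Quotient.mk_surjective, ← RingHom.ker_eq_comap_bot, Ideal.mk_ker,
      sup_eq_left.2 hJQ] at h2
    rw [h2]
    exact eq_maximalIdeal (Ideal.comap_isMaximal_of_surjective (Ideal.Quotient.mk J) Ideal.Quotient.mk_surjective)

/-- Flatness over a local ring whose maximal ideal is generated by a system of parameters. -/
theorem flat_of_params {A B : Type u} [CommRing A] [CommRing B] [IsLocalRing A] [IsNoetherianRing A] [Algebra A B]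
    [IsLocalRing B] [IsNoetherianRing B] [IsLocalHom (algebraMap A B)] (hCM : LocCoh.IsCohenMacaulayLocalRing B) {n : ℕ}
    (t : Fin n → A) (ht : maximalIdeal A = Ideal.span (Set.range t))
    (hn : ((n : ℕ) : WithBot ℕ∞) ≤ ringKrullDim B)
    (h0 : ∀ Q : Ideal B, Q.IsPrime → (∀ i, algebraMap A B (t i) ∈ Q) → Q = maximalIdeal B) :
    Module.Flat A B := by
  have hz : ringKrullDim (EGA4.FibRing A B) = 0 := by
    refine le_antisymm ?_ ringKrullDim_nonneg_of_nontrivial
    refine Order.krullDim_nonpos_iff_forall_isMax.2 fun P Q hPQ => le_of_eq ?_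
    have : ∀ P : PrimeSpectrum (EGA4.FibRing A B),
        P.asIdeal.comap (Ideal.Quotient.mk (EGA4.mB A B)) = maximalIdeal B := fun P => by
      refine h0 _ (Ideal.IsPrime.comap _) fun i => ?_
      rw [Ideal.mem_comap, Ideal.Quotient.eq_zero_iff_mem.2 (Ideal.mem_map_of_mem _ (ht ▸ Ideal.subset_span ⟨i, rfl⟩))]
      exact zero_mem _
    exact PrimeSpectrum.ext (Ideal.comap_injective_of_surjective _ Ideal.Quotient.mk_surjective ((this Q).trans (this P).symm))
  have h1 : ringKrullDim B ≤ ringKrullDim A := by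
    have := FlatLoc6.ringKrullDim_le_add_fibre (A := A) (B := B)
    rwa [hz, add_zero] at this
  have h2 : (((maximalIdeal A).spanFinrank : ℕ) : WithBot ℕ∞) ≤ (n : ℕ) := by
    have : (maximalIdeal A).spanFinrank ≤ n := by
      rw [ht]
      refine (Submodule.spanFinrank_span_le_ncard_of_finite (Set.finite_range t)).trans ?_
      rw [← Nat.card_coe_set_eq]
      exact (Finite.card_range_le t).trans (by simp)
    exact_mod_cast this
  haveI : IsRegularLocalRing A := .of_spanFinrank_maximalIdeal_le A (h2.trans (hn.trans h1))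
  have heq : ringKrullDim B = ringKrullDim A :=
    le_antisymm h1 ((ringKrullDim_le_spanFinrank_maximalIdeal A).trans (h2.trans hn))
  refine S2599.result A B B hCM.supportDim_eq_depth ?_
  rw [Module.supportDim_self_eq_ringKrullDim]
  have hmod : Module.supportDim B (EGA4.FibMod A B B) = ringKrullDim (EGA4.FibRing A B) := by
    rw [Module.supportDim_eq_of_equiv (Submodule.quotEquivOfEq (EGA4.mB A B • ⊤ : Submodule B B) (EGA4.mB A B)
      (by rw [Ideal.smul_eq_mul, Ideal.mul_top]))]
    exact Module.supportDim_quotient_eq_ringKrullDim _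
  rw [hmod, hz, add_zero, heq]

/-- The same for the quotients by an ideal of the base. -/
theorem flat_quotientMap_of_params {Oy Ox : Type u} [CommRing Oy] [CommRing Ox] [IsLocalRing Oy] [IsLocalRing Ox]
    (φ : Oy →+* Ox) [IsLocalHom φ] (I : Ideal Oy) (hI : I ≤ maximalIdeal Oy) [IsNoetherianRing (Oy ⧸ I)]
    (hCM : LocCoh.IsCohenMacaulayLocalRing (Ox ⧸ I.map φ)) {n : ℕ} (t : Fin n → Oy)
    (ht : maximalIdeal Oy ≤ I ⊔ Ideal.span (Set.range t)) (ht' : ∀ i, t i ∈ maximalIdeal Oy)
    (hn : ((n : ℕ) : WithBot ℕ∞) ≤ ringKrullDim (Ox ⧸ I.map φ))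
    (h0 : ∀ Q : Ideal Ox, Q.IsPrime → I.map φ ≤ Q → (∀ i, φ (t i) ∈ Q) → Q = maximalIdeal Ox) :
    (Ideal.quotientMap (I.map φ) φ Ideal.le_comap_map).Flat := by
  haveI := hCM
  haveI : Nontrivial (Oy ⧸ I) :=
    Ideal.Quotient.nontrivial_iff.2 fun h => (maximalIdeal.isMaximal Oy).ne_top (top_le_iff.1 (h ▸ hI))
  haveI : IsLocalRing (Oy ⧸ I) := .of_surjective' (Ideal.Quotient.mk _) Ideal.Quotient.mk_surjective
  haveI : IsLocalHom (Ideal.Quotient.mk I) := IsLocalHom.of_surjective _ Ideal.Quotient.mk_surjective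
  haveI : IsLocalHom (Ideal.Quotient.mk (I.map φ)) := IsLocalHom.of_surjective _ Ideal.Quotient.mk_surjective
  letI : Algebra (Oy ⧸ I) (Ox ⧸ I.map φ) := (Ideal.quotientMap (I.map φ) φ Ideal.le_comap_map).toAlgebra
  haveI : IsLocalHom (algebraMap (Oy ⧸ I) (Ox ⧸ I.map φ)) := by
    constructor
    intro y hy
    obtain ⟨y, rfl⟩ := Ideal.Quotient.mk_surjective y
    exact (isUnit_of_map_unit φ y (isUnit_of_map_unit (Ideal.Quotient.mk (I.map φ)) _ hy)).map _
  show Module.Flat (Oy ⧸ I) (Ox ⧸ I.map φ)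
  have hmap := map_maximalIdeal_of_surjective (Ideal.Quotient.mk I) Ideal.Quotient.mk_surjective
  refine flat_of_params hCM (fun i => Ideal.Quotient.mk I (t i)) ?_ hn fun Q hQ htQ => ?_
  · rw [show Set.range (fun i => Ideal.Quotient.mk I (t i)) = Ideal.Quotient.mk I '' Set.range t from Set.range_comp _ _,
      ← Ideal.map_span, ← hmap]
    refine le_antisymm ((Ideal.map_mono ht).trans ?_) (Ideal.map_mono (Ideal.span_le.2 (Set.range_subset_iff.2 ht')))
    rw [Ideal.map_sup, Ideal.map_quotient_self, bot_sup_eq]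
  · have h1 := h0 (Q.comap (Ideal.Quotient.mk _)) (Ideal.IsPrime.comap _)
      (fun a ha => by rw [Ideal.mem_comap, Ideal.Quotient.eq_zero_iff_mem.2 ha]; exact zero_mem _)
      (fun i => htQ i)
    refine Ideal.comap_injective_of_surjective _ Ideal.Quotient.mk_surjective (h1.trans ?_)
    exact (eq_maximalIdeal (Ideal.comap_isMaximal_of_surjective (Ideal.Quotient.mk (I.map φ)) Ideal.Quotient.mk_surjective)).symm

end Groth.Agent.CMOpen5
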