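import Mathlib
import Groth.Agent.CMOpen5.Params
import Groth.Agent.Triage.CMMor
import Groth.Agent.FibFlat.Local

/-!
# A flat quasi-finite map to affine space at a Cohen-Macaulay point closed in its fibre
-/

set_option autoImplicit false
set_option linter.style.haveILetI false

universe u

open AlgebraicGeometry CategoryTheory CategoryTheory.Limits IsLocalRing

namespace Groth.Agent.CMOpen5

open FibFlat

theorem tS_isUnit_iff (R : CommRingCat.{u}) (p : PrimeSpectrum R) (a : R) :
    IsUnit (tS R p a) ↔ a ∉ p.asIdeal := by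
  rw [tS_eq]
  let e := (Spec.stalkIso R p).commRingCatIsoToRingEquiv
  show IsUnit (e.symm (algebraMap R (Localization.AtPrime p.asIdeal) a)) ↔ _
  rw [MulEquiv.isUnit_map e.symm, IsLocalization.AtPrime.isUnit_to_map_iff _ p.asIdeal]
  rfl

theorem tS_mem_iff (R : CommRingCat.{u}) (p : Spec R) (a : R) :
    tS R p a ∈ maximalIdeal ((Spec R).presheaf.stalk p) ↔ a ∈ p.asIdeal := by
  refine (IsLocalRing.mem_maximalIdeal _).trans (mem_nonunits_iff.trans ?_)
  exact (not_congr (tS_isUnit_iff R (p : PrimeSpectrum R) a)).trans not_not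

theorem map_map_sm {X Y S : Scheme.{u}} (g : X ⟶ Y) (h : Y ⟶ S) (f : X ⟶ S) (e : g ≫ h = f) (x : X) (y : Y) (s : S)
    (hy : g x = y) (hys : h y = s) (hs : f x = s) :
    ((maximalIdeal _).map (sm h y s hys)).map (sm g x y hy) = (maximalIdeal _).map (sm f x s hs) := by
  subst e
  rw [Ideal.map_map, ← sm_comp g h x y s hy hys]

/-- The fibre local ring of affine space at the origin over `p`. -/
theorem maximalIdeal_le_poly {R : Type u} [CommRing R] {n : ℕ}
    (y : Spec (CommRingCat.of (MvPolynomial (Fin n) R))) (hy : ∀ i, MvPolynomial.X i ∈ y.asIdeal)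
    (s : Spec (CommRingCat.of R)) (hs : Spec.map (CommRingCat.ofHom (algebraMap R (MvPolynomial (Fin n) R))) y = s) :
    maximalIdeal ((Spec (CommRingCat.of (MvPolynomial (Fin n) R))).presheaf.stalk y) ≤
      (maximalIdeal _).map (sm (Spec.map (CommRingCat.ofHom (algebraMap R (MvPolynomial (Fin n) R)))) y s hs) ⊔
        Ideal.span (Set.range fun i : Fin n => tS (CommRingCat.of (MvPolynomial (Fin n) R)) y (MvPolynomial.X i)) := by
  intro z hz
  obtain ⟨a, u, hu, hau⟩ := tS_surj (CommRingCat.of (MvPolynomial (Fin n) R)) y z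
  have ha : a ∈ y.asIdeal := (tS_mem_iff _ y a).1 (hau ▸ Ideal.mul_mem_right _ _ hz)
  rw [← Ideal.mul_unit_mem_iff_mem _ hu, hau]
  let I₀ : Ideal (MvPolynomial (Fin n) R) := Ideal.span (Set.range (MvPolynomial.X : Fin n → MvPolynomial (Fin n) R))
  have hXy : I₀ ≤ y.asIdeal := Ideal.span_le.2 (Set.range_subset_iff.2 hy)
  have hC : ∀ G : MvPolynomial (Fin n) R, G - MvPolynomial.C (MvPolynomial.constantCoeff G) ∈ I₀ := fun G => by
    induction G using MvPolynomial.induction_on with
    | C r => simp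
    | add p q hp hq => rw [map_add, map_add, add_sub_add_comm]; exact add_mem hp hq
    | mul_X p i _ => simpa using Ideal.mul_mem_left I₀ p (Ideal.subset_span ⟨i, rfl⟩)
  have hc : MvPolynomial.C (MvPolynomial.constantCoeff a) ∈ y.asIdeal := by
    have := y.asIdeal.sub_mem ha (hXy (hC a))
    rwa [sub_sub_cancel] at this
  rw [show a = MvPolynomial.C (MvPolynomial.constantCoeff a) + (a - MvPolynomial.C (MvPolynomial.constantCoeff a)) by ring,
    map_add]
  refine Submodule.add_mem_sup ?_ ?_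
  · have hn := tS_natural (CommRingCat.ofHom (algebraMap R (MvPolynomial (Fin n) R))) y s hs
    have h1 : tS (CommRingCat.of (MvPolynomial (Fin n) R)) y (MvPolynomial.C (MvPolynomial.constantCoeff a)) =
        sm (Spec.map (CommRingCat.ofHom (algebraMap R (MvPolynomial (Fin n) R)))) y s hs
          (tS (CommRingCat.of R) s (MvPolynomial.constantCoeff a)) :=
      (RingHom.congr_fun hn (MvPolynomial.constantCoeff a)).symm
    rw [h1]
    refine Ideal.mem_map_of_mem _ ((tS_mem_iff _ s _).2 ?_)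
    subst hs
    exact hc
  · have h1 := Ideal.mem_map_of_mem (tS (CommRingCat.of (MvPolynomial (Fin n) R)) y) (hC a)
    rwa [Ideal.map_span, ← Set.range_comp] at h1

theorem exists_flat_quasiFinite {R P : Type u} [CommRing R] [CommRing P] [Algebra R P]
    [Algebra.FinitePresentation R P] [Module.Flat R P] (x : Spec (CommRingCat.of P))
    (hcm : MoreMor.IsCMAt (Spec.map (CommRingCat.ofHom (algebraMap R P))) x)
    (hcl : ∀ w, x ⤳ w → Spec.map (CommRingCat.ofHom (algebraMap R P)) w = Spec.map (CommRingCat.ofHom (algebraMap R P)) x → w = x) :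
    ∃ (n : ℕ) (φ : MvPolynomial (Fin n) R →ₐ[R] P),
      ((Spec.map (CommRingCat.ofHom φ.toRingHom)).stalkMap x).hom.Flat ∧
        Scheme.Hom.QuasiFiniteAt (Spec.map (CommRingCat.ofHom φ.toRingHom)) x := by
  set f := Spec.map (CommRingCat.ofHom (algebraMap R P)) with hf
  obtain ⟨s, hs⟩ : ∃ s, f x = s := ⟨_, rfl⟩
  obtain ⟨-, hCM⟩ := (Triage.CMMor.isCMAt_iff_sm f x s hs).1 hcm
  obtain ⟨n, b, hn, hbm, hprime⟩ :=
    exists_params _ (tS (CommRingCat.of P) x) (tS_surj (CommRingCat.of P) x) hCM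
  refine ⟨n, MvPolynomial.aeval b, ?_⟩
  set φ : MvPolynomial (Fin n) R →ₐ[R] P := MvPolynomial.aeval b
  set fS := Spec.map (CommRingCat.ofHom φ.toRingHom)
  set gS := Spec.map (CommRingCat.ofHom (algebraMap R (MvPolynomial (Fin n) R)))
  have hcomp : fS ≫ gS = f := by
    rw [hf, ← Spec.map_comp]
    exact congrArg Spec.map (CommRingCat.hom_ext φ.comp_algebraMap)
  obtain ⟨y, hy⟩ : ∃ y, fS x = y := ⟨_, rfl⟩
  have hys : gS y = s := by rw [← hy, ← Scheme.Hom.comp_apply, hcomp, hs]
  have hb : ∀ i, b i ∈ x.asIdeal := fun i => (tS_mem_iff _ x _).1 (hbm i)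
  have hXy : ∀ i, MvPolynomial.X i ∈ y.asIdeal := fun i => by
    subst hy
    show φ (MvPolynomial.X i) ∈ x.asIdeal
    rw [MvPolynomial.aeval_X]
    exact hb i
  have hT : ∀ i, sm fS x y hy (tS (CommRingCat.of (MvPolynomial (Fin n) R)) y (MvPolynomial.X i)) =
      tS (CommRingCat.of P) x (b i) := fun i =>
    (RingHom.congr_fun (tS_natural (CommRingCat.ofHom φ.toRingHom) x y hy) (MvPolynomial.X i)).trans
      (congrArg (tS (CommRingCat.of P) x) (MvPolynomial.aeval_X b i))
  have hJ : ((maximalIdeal _).map (sm gS y s hys)).map (sm fS x y hy) = (maximalIdeal _).map (sm f x s hs) :=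
    map_map_sm fS gS f hcomp x y s hy hys hs
  haveI : LocallyOfFiniteType gS := (HasRingHomProperty.Spec_iff (P := @LocallyOfFiniteType)).2
    (RingHom.finiteType_algebraMap.2 inferInstance)
  haveI := Triage.CMMor.isNoetherianRing_fibre_stalk_sm gS y s hys
    (LocallyOfFiniteType.isLocallyNoetherian (gS.fiberToSpecResidueField s))
  have hFF : FF fS gS x := by
    rw [ff_iff fS gS x y s hy hys]
    refine flat_quotientMap_of_params (sm fS x y hy) _ (map_maximalIdeal_le _) (hJ.symm ▸ hCM)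
      (fun i => tS (CommRingCat.of (MvPolynomial (Fin n) R)) y (MvPolynomial.X i))
      (maximalIdeal_le_poly y hXy s hys) (fun i => (tS_mem_iff _ y _).2 (hXy i)) (hJ.symm ▸ hn) fun Q hQ hJQ hbQ => ?_
    exact hprime Q hQ (hJ ▸ hJQ) fun i => hT i ▸ hbQ i
  refine ⟨(core_affine φ x hFF).2, ?_⟩
  haveI : LocallyOfFiniteType fS := by
    haveI : LocallyOfFiniteType (fS ≫ gS) := by
      rw [hcomp]
      exact (HasRingHomProperty.Spec_iff (P := @LocallyOfFiniteType)).2 (RingHom.finiteType_algebraMap.2 inferInstance)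
    exact locallyOfFiniteType_of_comp fS gS
  rw [Scheme.Hom.quasiFiniteAt_iff_isOpen_singleton_asFiber]
  haveI : IsLocallyNoetherian (fS.fiber (fS x)) :=
    LocallyOfFiniteType.isLocallyNoetherian (fS.fiberToSpecResidueField (fS x))
  have hι : ∀ w : ↥(fS.fiber (fS x)), fS (fS.fiberι (fS x) w) = fS x := fun w => FlatDvr.fiberι_apply_eq fS w
  have hfw : ∀ w : ↥(fS.fiber (fS x)), f (fS.fiberι (fS x) w) = f x := fun w => by
    rw [← hcomp, Scheme.Hom.comp_apply, hι, Scheme.Hom.comp_apply]
  have hinj := (fS.fiberι (fS x)).isEmbedding.injective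
  refine Triage.SliceCM.isOpen_singleton_of_minimal_scheme _ (closure_subset_iff_isClosed.1 fun w hw => ?_) fun w hw => ?_
  · refine hinj ((hcl _ ?_ (hfw w)).trans (fS.fiberι_asFiber x).symm)
    have := (specializes_iff_mem_closure.2 hw).map (fS.fiberι (fS x)).continuous
    rwa [Scheme.Hom.fiberι_asFiber] at this
  · refine hinj ((?_ : _ = x).trans (fS.fiberι_asFiber x).symm)
    have h1 := hw.map (fS.fiberι (fS x)).continuous
    rw [Scheme.Hom.fiberι_asFiber] at h1
    refine Triage.SliceCM.eq_of_specializes f x _ h1 (hfw w) (List.ofFn fun i => tS (CommRingCat.of P) x (b i)) ?_ ?_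
    · intro Q hQ hbQ hJQ
      refine hprime Q hQ ?_ fun i => hbQ _ ((List.mem_ofFn' _ _).2 ⟨i, rfl⟩)
      subst hs
      rwa [sm_self]
    · intro h hh
      obtain ⟨i, rfl⟩ := (List.mem_ofFn' _ _).1 hh
      have hw' : b i ∈ (fS.fiberι (fS x) w).asIdeal := by
        have : MvPolynomial.X i ∈ (fS (fS.fiberι (fS x) w)).asIdeal := by rw [hι, hy]; exact hXy i
        have h3 : φ (MvPolynomial.X i) ∈ (fS.fiberι (fS x) w).asIdeal := this
        rwa [MvPolynomial.aeval_X] at h3
      have h2 := (tS_mem_iff (CommRingCat.of P) (fS.fiberι (fS x) w) (b i)).2 hw'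
      convert! h2 using 1
      rw [tS_def, tS_def]
      exact TopCat.Presheaf.germ_stalkSpecializes_apply ..

end Groth.Agent.CMOpen5
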