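import Mathlib
import Groth.Agent.CMOpen5.Chart
import Groth.Agent.CMBCAny.Basic
import Groth.Agent.FlatLoc6.RegCM
import Groth.Agent.FlatLocus.Basic
import Groth.Agent.LC.CanonAnnihilator
import Groth.Agent.S9152
import Groth.Agent.S9766
import Groth.Agent.S9768

/-!
# Openness of the Cohen-Macaulay locus of a morphism
-/

set_option autoImplicit false
set_option linter.style.haveILetI false

universe u

open AlgebraicGeometry CategoryTheory CategoryTheory.Limits IsLocalRing

namespace Groth.Agent.CMOpen5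

open FibFlat

attribute [local instance] MvPolynomial.algebraMvPolynomial

/-- A flat morphism is Cohen-Macaulay where it is quasi-finite. -/
theorem isCMAt_of_quasiFiniteAt {X S : Scheme.{u}} (f : X ⟶ S) [LocallyOfFiniteType f] (x : X)
    (hflat : (f.stalkMap x).hom.Flat) (hqf : f.QuasiFiniteAt x) : MoreMor.IsCMAt f x := by
  refine ⟨hflat, ?_⟩
  haveI : IsLocallyNoetherian (f.fiber (f x)) :=
    LocallyOfFiniteType.isLocallyNoetherian (f.fiberToSpecResidueField (f x))
  have hopen : IsOpen ({f.asFiber x} : Set (f.fiber (f x))) :=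
    Scheme.Hom.quasiFiniteAt_iff_isOpen_singleton_asFiber.1 hqf
  let j := (f.fiber (f x)).fromSpecStalk (f.asFiber x)
  have hsub : Subsingleton (PrimeSpectrum ((f.fiber (f x)).presheaf.stalk (f.asFiber x))) := by
    refine ⟨fun a b => j.isEmbedding.injective ?_⟩
    have key : ∀ a, j a = f.asFiber x := fun a => by
      have h : j a ⤳ f.asFiber x := by
        have := Set.mem_range_self (f := j) a
        rwa [Scheme.range_fromSpecStalk] at this
      exact h.mem_open hopen rfl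
    exact (key a).trans (key b).symm
  refine LC.Canon.isCMLocal_of_dim_zero ?_
  exact le_antisymm (Order.krullDim_nonpos_of_subsingleton) ringKrullDim_nonneg_of_nontrivial

theorem isCM_stalk_Spec (P : Type u) [CommRing P] [LocCoh.IsCohenMacaulayRing P] (z : Spec (CommRingCat.of P)) :
    LocCoh.IsCohenMacaulayLocalRing ((Spec (CommRingCat.of P)).presheaf.stalk z) :=
  let z' : PrimeSpectrum P := z
  Triage.CMMor.isCM_of_equiv (Spec.stalkIso (CommRingCat.of P) z).commRingCatIsoToRingEquiv.symm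
    (LocCoh.IsCohenMacaulayRing.isCohenMacaulayLocalRing_localization z'.asIdeal)

/-- Affine space over a ring is Cohen-Macaulay at every point. -/
theorem isCMAt_poly (R : Type u) [CommRing R] (n : ℕ) (y : PrimeSpectrum (MvPolynomial (Fin n) R)) :
    MoreMor.IsCMAt (Spec.map (CommRingCat.ofHom (algebraMap R (MvPolynomial (Fin n) R)))) y := by
  set g := Spec.map (CommRingCat.ofHom (algebraMap R (MvPolynomial (Fin n) R)))
  haveI : Flat g := Flat.SpecMap_iff.2 (RingHom.flat_algebraMap_iff.2 inferInstance)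
  haveI : LocallyOfFinitePresentation g :=
    HasRingHomProperty.Spec_iff.2 (RingHom.finitePresentation_algebraMap.2 inferInstance)
  let k := Ideal.ResidueField (y.asIdeal.comap (algebraMap R (MvPolynomial (Fin n) R)))
  have sq := isPullback_SpecMap_of_isPushout _ _ _ _
    (CommRingCat.isPushout_of_isPushout R (MvPolynomial (Fin n) R) k (MvPolynomial (Fin n) k))
  obtain ⟨y', hy', -⟩ := Scheme.exists_preimage_of_isPullback sq (x := y) (y := (⟨⊥, Ideal.isPrime_bot⟩ : PrimeSpectrum k))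
    (PrimeSpectrum.ext (R := R) (Ideal.ext fun r : R => (Ideal.algebraMap_residueField_eq_zero (I := y.asIdeal.comap (algebraMap R (MvPolynomial (Fin n) R))) (x := r)).symm))
  set g' := Spec.map (CommRingCat.ofHom (algebraMap k (MvPolynomial (Fin n) k)))
  haveI : Flat g' := Flat.SpecMap_iff.2 (RingHom.flat_algebraMap_iff.2 inferInstance)
  haveI : IsNoetherianRing (CommRingCat.of (MvPolynomial (Fin n) k)) :=
    inferInstanceAs (IsNoetherianRing (MvPolynomial (Fin n) k))
  haveI : IsNoetherianRing (CommRingCat.of k) := inferInstanceAs (IsNoetherianRing k)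
  haveI := FlatLoc6.isCM_of_isRegularRing (MvPolynomial (Fin n) k)
  have h := (S9768.result g' (isCM_stalk_Spec (MvPolynomial (Fin n) k)) y').1
  rw [Triage.CMMor.isCMAt_iff_sm g' y' (g' y') rfl] at h
  refine (congrArg (MoreMor.IsCMAt g) hy').mp ?_
  exact (Triage.CMMor.isCMAt_iff_sm g _ (g _) rfl).2
    ⟨(sm_flat_iff g _ (g _) rfl).2 (Flat.stalkMap g _), (CMBCAny.isCM_fibre_iff sq y').1 h.2⟩

/-- The composite with affine space of a flat quasi-finite map is Cohen-Macaulay. -/
theorem isCMAt_of_chart {R P : Type u} [CommRing R] [CommRing P] [Algebra R P] [Algebra.FiniteType R P] {n : ℕ}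
    (φ : MvPolynomial (Fin n) R →ₐ[R] P) (z : Spec (CommRingCat.of P))
    (hflat : ((Spec.map (CommRingCat.ofHom φ.toRingHom)).stalkMap z).hom.Flat)
    (hqf : Scheme.Hom.QuasiFiniteAt (Spec.map (CommRingCat.ofHom φ.toRingHom)) z) :
    MoreMor.IsCMAt (Spec.map (CommRingCat.ofHom (algebraMap R P))) z := by
  have hcomp : Spec.map (CommRingCat.ofHom φ.toRingHom) ≫
      Spec.map (CommRingCat.ofHom (algebraMap R (MvPolynomial (Fin n) R))) =
      Spec.map (CommRingCat.ofHom (algebraMap R P)) :=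
    (Spec.map_comp _ _).symm.trans (congrArg Spec.map (CommRingCat.hom_ext φ.comp_algebraMap))
  haveI hft : LocallyOfFiniteType (Spec.map (CommRingCat.ofHom φ.toRingHom) ≫
      Spec.map (CommRingCat.ofHom (algebraMap R (MvPolynomial (Fin n) R)))) := by
    rw [hcomp]
    exact HasRingHomProperty.Spec_iff.2 (RingHom.finiteType_algebraMap.2 inferInstance)
  haveI : LocallyOfFiniteType (Spec.map (CommRingCat.ofHom φ.toRingHom)) :=
    locallyOfFiniteType_of_comp _ (Spec.map (CommRingCat.ofHom (algebraMap R (MvPolynomial (Fin n) R))))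
  rw [← hcomp]
  exact S9766.result _ _ z (LocallyOfFiniteType.isLocallyNoetherian (Scheme.Hom.fiberToSpecResidueField _ _))
    (isCMAt_of_quasiFiniteAt _ z hflat hqf) (isCMAt_poly R n _)

theorem isCMAt_openImmersion_comp {U X S : Scheme.{u}} (j : U ⟶ X) [IsOpenImmersion j] (f : X ⟶ S) (u : U) :
    MoreMor.IsCMAt (j ≫ f) u ↔ MoreMor.IsCMAt f (j u) := by
  have hs : (j ≫ f) u = f (j u) := Scheme.Hom.comp_apply j f u
  rw [Triage.CMMor.isCMAt_iff_sm (j ≫ f) u (f (j u)) hs, Triage.CMMor.isCMAt_iff_sm f (j u) (f (j u)) rfl,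
    sm_comp j f u (j u) (f (j u)) rfl rfl]
  have hbij : Function.Bijective (sm j u (j u) rfl) := by
    rw [sm_self]
    exact ConcreteCategory.bijective_of_isIso (j.stalkMap u)
  let e := RingEquiv.ofBijective _ hbij
  refine and_congr ⟨fun h => ?_, fun h => h.comp (RingHom.Flat.of_bijective hbij)⟩ ?_
  · have := h.comp (RingHom.Flat.of_bijective e.symm.bijective : e.symm.toRingHom.Flat)
    convert this using 1
    ext a
    exact (e.symm_apply_apply _).symm
  · exact (Triage.CMMor.isCM_congr (Ideal.quotientEquiv _ _ e (Ideal.map_map _ _).symm)).symm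

theorem isCMAt_comp_openImmersion {X V S : Scheme.{u}} (g : X ⟶ V) (i : V ⟶ S) [IsOpenImmersion i] (x : X) :
    MoreMor.IsCMAt (g ≫ i) x ↔ MoreMor.IsCMAt g x := by
  have hs : (g ≫ i) x = i (g x) := Scheme.Hom.comp_apply g i x
  rw [Triage.CMMor.isCMAt_iff_sm (g ≫ i) x (i (g x)) hs, Triage.CMMor.isCMAt_iff_sm g x (g x) rfl,
    sm_comp g i x (g x) (i (g x)) rfl rfl]
  have hbij : Function.Bijective (sm i (g x) (i (g x)) rfl) := by
    rw [sm_self]
    exact ConcreteCategory.bijective_of_isIso (i.stalkMap (g x))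
  let e := RingEquiv.ofBijective _ hbij
  refine and_congr ⟨fun h => ?_, fun h => (RingHom.Flat.of_bijective hbij).comp h⟩ ?_
  · have := (RingHom.Flat.of_bijective e.symm.bijective : e.symm.toRingHom.Flat).comp h
    convert this using 1
    ext a
    exact congrArg (sm g x (g x) rfl) (e.apply_symm_apply a).symm
  · refine Triage.CMMor.isCM_congr (Ideal.quotEquivOfEq ?_)
    rw [← Ideal.map_map]
    exact congrArg (Ideal.map _) (map_maximalIdeal_of_surjective _ hbij.2)

theorem isCMAt_chart {X Y U V : Scheme.{u}} (f : X ⟶ Y) (φ : U ⟶ V) (j : U ⟶ X) [IsOpenImmersion j] (i : V ⟶ Y)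
    [IsOpenImmersion i] (h : j ≫ f = φ ≫ i) (q : U) : MoreMor.IsCMAt f (j q) ↔ MoreMor.IsCMAt φ q := by
  rw [← isCMAt_openImmersion_comp j f q, h, isCMAt_comp_openImmersion]

/-- The Cohen-Macaulay locus of a scheme locally of finite type over a field is open. -/
theorem isOpen_CM_stalks {k : Type u} [Field k] {F : Scheme.{u}} (g : F ⟶ Spec (CommRingCat.of k))
    [LocallyOfFiniteType g] : IsOpen {w : F | LocCoh.IsCohenMacaulayLocalRing (F.presheaf.stalk w)} := by
  rw [isOpen_iff_forall_mem_open]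
  intro w hw
  obtain ⟨W, hW, hwW, -⟩ := exists_isAffineOpen_mem_and_subset (U := (⊤ : F.Opens)) (x := w) trivial
  obtain ⟨φ, hφ⟩ := Spec.map_surjective (hW.fromSpec ≫ g)
  letI : Algebra k Γ(F, W) := φ.hom.toAlgebra
  haveI : Algebra.FiniteType k Γ(F, W) := by
    have h : LocallyOfFiniteType (Spec.map φ) := by rw [hφ]; infer_instance
    exact HasRingHomProperty.Spec_iff.1 h
  have hopen := S9152.result k Γ(F, W)
  have key : hW.fromSpec ⁻¹' {w : F | LocCoh.IsCohenMacaulayLocalRing (F.presheaf.stalk w)} =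
      {q : PrimeSpectrum Γ(F, W) | LocCoh.IsCohenMacaulayLocalRing (Localization.AtPrime q.asIdeal)} := by
    ext q
    exact (Triage.CMMor.isCM_congr (asIso (hW.fromSpec.stalkMap q)).commRingCatIsoToRingEquiv).trans
      (Triage.CMMor.isCM_congr (Spec.stalkIso Γ(F, W) q).commRingCatIsoToRingEquiv)
  refine ⟨hW.fromSpec '' (hW.fromSpec ⁻¹' {w : F | LocCoh.IsCohenMacaulayLocalRing (F.presheaf.stalk w)}),
    Set.image_preimage_subset _ _, hW.fromSpec.isOpenEmbedding.isOpenMap _ (key ▸ hopen), ?_⟩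
  obtain ⟨q, rfl⟩ : w ∈ Set.range hW.fromSpec := by rw [hW.range_fromSpec]; exact hwW
  exact ⟨q, hw, rfl⟩

/-- A closed point of the fibre with Cohen-Macaulay fibre at which `f` is flat. -/
theorem exists_closed_specialization {X Y : Scheme.{u}} (f : X ⟶ Y) [LocallyOfFinitePresentation f] (x : X)
    (h : MoreMor.IsCMAt f x) :
    ∃ x₁, x ⤳ x₁ ∧ f x₁ = f x ∧ MoreMor.IsCMAt f x₁ ∧ ∀ w, x₁ ⤳ w → f w = f x₁ → w = x₁ := by
  haveI : LocallyOfFiniteType f := inferInstance
  haveI : LocallyOfFiniteType (f.fiberToSpecResidueField (f x)) :=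
    inferInstanceAs (LocallyOfFiniteType (pullback.snd f (Y.fromSpecResidueField (f x))))
  haveI : JacobsonSpace ↥(f.fiber (f x)) :=
    LocallyOfFiniteType.jacobsonSpace (f.fiberToSpecResidueField (f x))
  let ι := f.fiberι (f x)
  let O : Set ↥(f.fiber (f x)) := {w | LocCoh.IsCohenMacaulayLocalRing ((f.fiber (f x)).presheaf.stalk w)} ∩
    ι ⁻¹' {z | (f.stalkMap z).hom.Flat}
  have hO : IsOpen O := IsOpen.inter
    (@isOpen_CM_stalks (IsLocalRing.ResidueField (Y.presheaf.stalk (f x))) _ _ (f.fiberToSpecResidueField (f x)) ‹_›)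
    ((FlatLocus.isOpen_flat_locus f).preimage ι.continuous)
  have hxO : f.asFiber x ∈ O := ⟨h.2, by
    show (f.stalkMap (f.fiberι (f x) (f.asFiber x))).hom.Flat
    rw [Scheme.Hom.fiberι_asFiber]; exact h.1⟩
  obtain ⟨w, ⟨hwO, hwcl⟩, hwc⟩ := nonempty_inter_closedPoints (Z := O ∩ closure {f.asFiber x})
    ⟨_, hxO, subset_closure rfl⟩ (hO.isLocallyClosed.inter isClosed_closure.isLocallyClosed)
  have hfw : f (ι w) = f x := FlatDvr.fiberι_apply_eq f w
  refine ⟨ι w, ?_, hfw, ?_, fun v hv hfv => ?_⟩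
  · have := (specializes_iff_mem_closure.2 hwcl).map ι.continuous
    rwa [Scheme.Hom.fiberι_asFiber] at this
  · rw [Triage.CMMor.isCMAt_iff_sm f (ι w) (f x) hfw]
    exact ⟨(sm_flat_iff f (ι w) (f x) hfw).2 hwO.2,
      Triage.CMMor.isCM_of_equiv (Triage.CMMor.exists_equiv_fibre_stalk_aux f (ι w) (f x) hfw w rfl).some.symm hwO.1⟩
  · obtain ⟨t, rfl⟩ : v ∈ Set.range ι := by rw [Scheme.Hom.range_fiberι]; exact hfv.trans hfw
    have h2 : w ⤳ t := ι.isEmbedding.isInducing.specializes_iff.1 hv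
    have h3 := h2.mem_closure
    rw [(show IsClosed ({w} : Set _) from hwc).closure_eq] at h3
    rw [show t = w from h3]

theorem flat_of_flat_stalks {X Y : Scheme.{u}} (f : X ⟶ Y) {V : Y.Opens} (hV : IsAffineOpen V) {U : X.Opens}
    (hU : IsAffineOpen U) [Algebra Γ(Y, V) Γ(X, U)]
    (hsq : hU.fromSpec ≫ f = Spec.map (CommRingCat.ofHom (algebraMap Γ(Y, V) Γ(X, U))) ≫ hV.fromSpec)
    (hflat : ∀ z ∈ U, (f.stalkMap z).hom.Flat) : Module.Flat Γ(Y, V) Γ(X, U) := by
  refine RingHom.flat_algebraMap_iff.1 (HasRingHomProperty.Spec_iff.1 ((Flat.iff_flat_stalkMap _).2 fun q => ?_ :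
    Flat (Spec.map (CommRingCat.ofHom (algebraMap Γ(Y, V) Γ(X, U))))))
  have h1 : (f.stalkMap (hU.fromSpec q)).hom.Flat :=
    hflat _ ((Set.ext_iff.1 hU.range_fromSpec _).1 (Set.mem_range_self q))
  have h2 := (flat_stalk_open_comp hU.fromSpec f q).2 h1
  rw [hsq, Scheme.Hom.stalkMap_comp] at h2
  have hiso : ∀ z : Spec Γ(Y, V), IsIso (hV.fromSpec.stalkMap z) := fun z => inferInstance
  exact (@FlatLocus.flat_isIso_comp _ _ _ _ (hiso _) _).1 h2

theorem lfp_chart {R P : Type u} [CommRing R] [CommRing P] [Algebra R P] [Algebra.FinitePresentation R P] {n : ℕ}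
    (φ : MvPolynomial (Fin n) R →ₐ[R] P) :
    LocallyOfFinitePresentation (Spec.map (CommRingCat.ofHom φ.toRingHom)) :=
  HasRingHomProperty.Spec_iff.2 (RingHom.FinitePresentation.of_comp_finiteType
    (f := algebraMap R (MvPolynomial (Fin n) R)) (g := φ.toRingHom) (by
      show ((φ : MvPolynomial (Fin n) R →+* P).comp _).FinitePresentation
      rw [φ.comp_algebraMap]; exact RingHom.finitePresentation_algebraMap.2 inferInstance)
    (RingHom.finiteType_algebraMap.2 inferInstance))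

/-- The Cohen-Macaulay locus is open. -/
theorem isOpen_isCMAt {X Y : Scheme.{u}} (f : X ⟶ Y) [LocallyOfFinitePresentation f] :
    IsOpen {x : X | MoreMor.IsCMAt f x} := by
  rw [isOpen_iff_forall_mem_open]
  intro x hx
  obtain ⟨x₁, hxx₁, hfx₁, hx₁, hcl⟩ := exists_closed_specialization f x hx
  obtain ⟨V, hV, hxV, -⟩ := exists_isAffineOpen_mem_and_subset (U := (⊤ : Y.Opens)) (x := f x₁) trivial
  let F : X.Opens := ⟨{z | (f.stalkMap z).hom.Flat}, FlatLocus.isOpen_flat_locus f⟩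
  obtain ⟨U, hU, hxU, hUW⟩ := exists_isAffineOpen_mem_and_subset (U := F ⊓ f ⁻¹ᵁ V) (x := x₁) ⟨hx₁.1, hxV⟩
  have hUV : U ≤ f ⁻¹ᵁ V := fun z hz => (hUW hz).2
  letI : Algebra Γ(Y, V) Γ(X, U) := (f.appLE V U hUV).hom.toAlgebra
  haveI : Algebra.FinitePresentation Γ(Y, V) Γ(X, U) := f.finitePresentation_appLE hV hU hUV
  have hsq : hU.fromSpec ≫ f = Spec.map (CommRingCat.ofHom (algebraMap Γ(Y, V) Γ(X, U))) ≫ hV.fromSpec :=
    (hV.SpecMap_appLE_fromSpec f hU hUV).symm
  haveI : Module.Flat Γ(Y, V) Γ(X, U) := flat_of_flat_stalks f hV hU hsq fun z hz => (hUW hz).1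
  obtain ⟨q, rfl⟩ : x₁ ∈ Set.range hU.fromSpec := by rw [hU.range_fromSpec]; exact hxU
  obtain ⟨n, φ, hφflat, hφqf⟩ := exists_flat_quasiFinite (R := Γ(Y, V)) (P := Γ(X, U)) q
    ((isCMAt_chart f _ _ _ hsq q).1 hx₁) fun w hw hfw => by
      refine hU.fromSpec.isOpenEmbedding.injective (hcl _ (hw.map hU.fromSpec.continuous) ?_)
      rw [← Scheme.Hom.comp_apply, ← Scheme.Hom.comp_apply, hsq, Scheme.Hom.comp_apply, Scheme.Hom.comp_apply]
      exact congrArg _ hfw
  haveI := lfp_chart φ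
  let W : (Spec Γ(X, U)).Opens := ⟨_, FlatLocus.isOpen_flat_locus (Spec.map (CommRingCat.ofHom φ.toRingHom))⟩ ⊓
    (Spec.map (CommRingCat.ofHom φ.toRingHom)).quasiFiniteLocus
  refine ⟨hU.fromSpec '' W, ?_, hU.fromSpec.isOpenEmbedding.isOpenMap _ W.2,
    hxx₁.mem_open (hU.fromSpec.isOpenEmbedding.isOpenMap _ W.2) ⟨q, ⟨hφflat, hφqf⟩, rfl⟩⟩
  rintro _ ⟨z, ⟨hz1, hz2⟩, rfl⟩
  exact (isCMAt_chart f _ _ _ hsq z).2 (isCMAt_of_chart φ z hz1 hz2)

end Groth.Agent.CMOpen5
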