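import Mathlib
import Groth.Agent.CMOpen5.Open

/-!
# Cohen-Macaulay morphisms and affine space
-/

set_option autoImplicit false
set_option linter.style.haveILetI false

universe u

open AlgebraicGeometry CategoryTheory CategoryTheory.Limits

namespace Groth.Agent.CMOpen5

/-- The chart of affine space over an affine open of the base. -/
noncomputable def chartA {R : CommRingCat.{u}} {Y : Scheme.{u}} (i : Spec R ⟶ Y) (n : ℕ) :
    Spec (CommRingCat.of (MvPolynomial (Fin n) R)) ⟶ 𝔸(ULift.{u} (Fin n); Y) :=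
  Spec.map (CommRingCat.ofHom (MvPolynomial.renameEquiv R Equiv.ulift.{u}).toAlgHom.toRingHom) ≫
    (AffineSpace.SpecIso (ULift.{u} (Fin n)) R).inv ≫ AffineSpace.map _ i

theorem isIso_rename (R : CommRingCat.{u}) (n : ℕ) :
    IsIso (Spec.map (CommRingCat.ofHom
      (MvPolynomial.renameEquiv R (Equiv.ulift.{u} : ULift.{u} (Fin n) ≃ Fin n)).toAlgHom.toRingHom)) := by
  haveI : IsIso (CommRingCat.ofHom
      (MvPolynomial.renameEquiv R (Equiv.ulift.{u} : ULift.{u} (Fin n) ≃ Fin n)).toAlgHom.toRingHom) :=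
    (MvPolynomial.renameEquiv R (Equiv.ulift.{u} : ULift.{u} (Fin n) ≃ Fin n)).toRingEquiv.toCommRingCatIso.isIso_hom
  infer_instance

instance isOpenImmersion_chartA {R : CommRingCat.{u}} {Y : Scheme.{u}} (i : Spec R ⟶ Y) [IsOpenImmersion i] (n : ℕ) :
    IsOpenImmersion (chartA i n) := by
  haveI := isIso_rename R n
  haveI : IsOpenImmersion (AffineSpace.map (ULift.{u} (Fin n)) i) :=
    MorphismProperty.of_isPullback (P := @IsOpenImmersion) (AffineSpace.isPullback_map i).flip ‹_›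
  exact inferInstanceAs (IsOpenImmersion (_ ≫ _ ≫ _))

theorem chartA_over {R : CommRingCat.{u}} {Y : Scheme.{u}} (i : Spec R ⟶ Y) (n : ℕ) :
    chartA i n ≫ (𝔸(ULift.{u} (Fin n); Y) ↘ Y) =
      Spec.map (CommRingCat.ofHom (algebraMap R (MvPolynomial (Fin n) R))) ≫ i := by
  rw [chartA, Category.assoc, Category.assoc, AffineSpace.map_over, AffineSpace.SpecIso_inv_over_assoc,
    ← Category.assoc, ← Spec.map_comp]
  congr 2
  refine CommRingCat.hom_ext (RingHom.ext fun r => ?_)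
  exact (MvPolynomial.renameEquiv R (Equiv.ulift.{u} : ULift.{u} (Fin n) ≃ Fin n)).commutes r

/-- Affine space is Cohen-Macaulay over the base. -/
theorem isCMAt_affineSpace {Y : Scheme.{u}} (n : ℕ) (p : 𝔸(ULift.{u} (Fin n); Y)) :
    MoreMor.IsCMAt (𝔸(ULift.{u} (Fin n); Y) ↘ Y) p := by
  obtain ⟨V, hV, hpV, -⟩ :=
    exists_isAffineOpen_mem_and_subset (U := (⊤ : Y.Opens)) (x := (𝔸(ULift.{u} (Fin n); Y) ↘ Y) p) trivial
  obtain ⟨v, hv⟩ : (𝔸(ULift.{u} (Fin n); Y) ↘ Y) p ∈ Set.range hV.fromSpec := by rw [hV.range_fromSpec]; exact hpV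
  obtain ⟨w, hw, -⟩ :=
    Scheme.exists_preimage_of_isPullback (AffineSpace.isPullback_map hV.fromSpec) p v hv.symm
  haveI := isIso_rename Γ(Y, V) n
  obtain ⟨w', hw'⟩ := (Spec.map (CommRingCat.ofHom
      (MvPolynomial.renameEquiv Γ(Y, V) (Equiv.ulift.{u} : ULift.{u} (Fin n) ≃ Fin n)).toAlgHom.toRingHom)).homeomorph.surjective
    ((AffineSpace.SpecIso (ULift.{u} (Fin n)) Γ(Y, V)).hom w)
  have hc : chartA hV.fromSpec n w' = p := by
    rw [chartA, Scheme.Hom.comp_apply]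
    refine (congrArg _ hw').trans ?_
    rw [← Scheme.Hom.comp_apply, Iso.hom_inv_id_assoc, hw]
  rw [← hc, isCMAt_chart _ _ _ _ (chartA_over hV.fromSpec n)]
  exact isCMAt_poly _ n _

theorem isCMAt_iff {X Y : Scheme.{u}} (f : X ⟶ Y) [LocallyOfFinitePresentation f] (x : X) :
    MoreMor.IsCMAt f x ↔ ∃ (n : ℕ) (U : X.Opens) (hx : x ∈ U) (g : (U : Scheme.{u}) ⟶ 𝔸(ULift.{u} (Fin n); Y)),
      g ≫ (𝔸(ULift.{u} (Fin n); Y) ↘ Y) = U.ι ≫ f ∧ LocallyQuasiFinite g ∧ (g.stalkMap ⟨x, hx⟩).hom.Flat := by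
  constructor
  · intro h
    obtain ⟨x₁, hxx₁, -, hx₁, hcl⟩ := exists_closed_specialization f x h
    obtain ⟨V, hV, hxV, -⟩ := exists_isAffineOpen_mem_and_subset (U := (⊤ : Y.Opens)) (x := f x₁) trivial
    let F : X.Opens := ⟨{z | (f.stalkMap z).hom.Flat}, FlatLocus.isOpen_flat_locus f⟩
    obtain ⟨U, hU, hxU, hUW⟩ := exists_isAffineOpen_mem_and_subset (U := F ⊓ f ⁻¹ᵁ V) (x := x₁) ⟨hx₁.1, hxV⟩
    have hUV : U ≤ f ⁻¹ᵁ V := fun z hz => (hUW hz).2
    letI : Algebra Γ(Y, V) Γ(X, U) := (f.appLE V U hUV).hom.toAlgebra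
    haveI : Algebra.FinitePresentation Γ(Y, V) Γ(X, U) := f.finitePresentation_appLE hV hU hUV
    have hsq : hU.fromSpec ≫ f = Spec.map (CommRingCat.ofHom (algebraMap Γ(Y, V) Γ(X, U))) ≫ hV.fromSpec :=
      (hV.SpecMap_appLE_fromSpec f hU hUV).symm
    haveI : Module.Flat Γ(Y, V) Γ(X, U) := flat_of_flat_stalks f hV hU hsq fun z hz => (hUW hz).1
    obtain ⟨q, rfl⟩ : x₁ ∈ Set.range hU.fromSpec := by rw [hU.range_fromSpec]; exact hxU
    obtain ⟨n, φ, hφflat, hφqf⟩ := exists_flat_quasiFinite (R := Γ(Y, V)) (P := Γ(X, U)) q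
      ((isCMAt_chart f _ _ _ hsq q).1 hx₁) fun w hw hfw => by
        refine hU.fromSpec.isOpenEmbedding.injective (hcl _ (hw.map hU.fromSpec.continuous) ?_)
        rw [← Scheme.Hom.comp_apply, ← Scheme.Hom.comp_apply, hsq, Scheme.Hom.comp_apply, Scheme.Hom.comp_apply]
        exact congrArg _ hfw
    have hφcomp : Spec.map (CommRingCat.ofHom φ.toRingHom) ≫ Spec.map (CommRingCat.ofHom (algebraMap Γ(Y, V) (MvPolynomial (Fin n) Γ(Y, V)))) =
        Spec.map (CommRingCat.ofHom (algebraMap Γ(Y, V) Γ(X, U))) :=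
      (Spec.map_comp _ _).symm.trans (congrArg Spec.map (CommRingCat.hom_ext φ.comp_algebraMap))
    haveI := lfp_chart φ
    let W : (Spec Γ(X, U)).Opens := ⟨_, FlatLocus.isOpen_flat_locus (Spec.map (CommRingCat.ofHom φ.toRingHom))⟩ ⊓
      (Spec.map (CommRingCat.ofHom φ.toRingHom)).quasiFiniteLocus
    let U' : X.Opens := hU.fromSpec ''ᵁ W
    have hxU' : x ∈ U' := hxx₁.mem_open U'.2 ⟨q, ⟨hφflat, hφqf⟩, rfl⟩
    have hsub : Set.range U'.ι ⊆ Set.range hU.fromSpec := by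
      rw [Scheme.Opens.range_ι]
      exact Set.image_subset_range _ _
    let l := IsOpenImmersion.lift hU.fromSpec U'.ι hsub
    have hl : l ≫ hU.fromSpec = U'.ι := IsOpenImmersion.lift_fac _ _ _
    haveI : IsOpenImmersion (l ≫ hU.fromSpec) := by rw [hl]; infer_instance
    haveI : IsOpenImmersion l := IsOpenImmersion.of_comp l hU.fromSpec
    have hlW : ∀ z, l z ∈ W := fun z => by
      obtain ⟨w, hw, hwz⟩ := z.2
      rwa [hU.fromSpec.isOpenEmbedding.injective (hwz.trans (by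
        show U'.ι z = _
        rw [← hl, Scheme.Hom.comp_apply]) : hU.fromSpec w = hU.fromSpec (l z))] at hw
    let g : (U' : Scheme.{u}) ⟶ 𝔸(ULift.{u} (Fin n); Y) :=
      l ≫ Spec.map (CommRingCat.ofHom φ.toRingHom) ≫ chartA hV.fromSpec n
    have hg : g ≫ (𝔸(ULift.{u} (Fin n); Y) ↘ Y) = U'.ι ≫ f := by
      simp only [g, Category.assoc]
      rw [chartA_over, ← hl, Category.assoc, hsq, reassoc_of% hφcomp]
    refine ⟨n, U', hxU', g, hg, ?_, ?_⟩
    · haveI : LocallyOfFiniteType (g ≫ (𝔸(ULift.{u} (Fin n); Y) ↘ Y)) := by rw [hg]; infer_instance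
      haveI : LocallyOfFiniteType g := locallyOfFiniteType_of_comp g (𝔸(ULift.{u} (Fin n); Y) ↘ Y)
      rw [← Scheme.Hom.quasiFiniteLocus_eq_top_iff]
      refine top_le_iff.1 fun z _ => ?_
      show g.QuasiFiniteAt z
      simp only [g]
      rw [Scheme.Hom.quasiFiniteAt_comp_iff_of_isOpenImmersion, Scheme.Hom.quasiFiniteAt_comp_iff]
      exact (hlW z).2
    · have key : ∀ z, (g.stalkMap z).hom.Flat := fun z => by
        simp only [g]
        rw [Scheme.Hom.stalkMap_comp]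
        refine (FlatLocus.flat_comp_isIso _ _).2 ?_
        rw [Scheme.Hom.stalkMap_comp]
        haveI hiso : ∀ w : Spec (CommRingCat.of (MvPolynomial (Fin n) Γ(Y, V))), IsIso ((chartA hV.fromSpec n).stalkMap w) :=
          fun w => inferInstance
        exact (@FlatLocus.flat_isIso_comp _ _ _ _ (hiso _) _).2 (hlW z).1
      exact key _
  · rintro ⟨n, U, hx, g, hg, hqf, hflat⟩
    haveI : LocallyOfFiniteType (g ≫ (𝔸(ULift.{u} (Fin n); Y) ↘ Y)) := by rw [hg]; infer_instance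
    haveI : LocallyOfFiniteType g := locallyOfFiniteType_of_comp g (𝔸(ULift.{u} (Fin n); Y) ↘ Y)
    have h := S9766.result g (𝔸(ULift.{u} (Fin n); Y) ↘ Y) ⟨x, hx⟩
      (LocallyOfFiniteType.isLocallyNoetherian (Scheme.Hom.fiberToSpecResidueField _ _))
      (isCMAt_of_quasiFiniteAt g _ hflat (g.quasiFiniteAt _)) (isCMAt_affineSpace n _)
    rw [hg] at h
    exact (isCMAt_openImmersion_comp U.ι f (⟨x, hx⟩ : (U : Scheme.{u}))).1 h

end Groth.Agent.CMOpen5
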